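import Cfsg.Agent.H28.CITGraph.Main
import Cfsg.Agent.H11.CIT.Lists
import Cfsg.Agent.H40.GL2Classes
import Cfsg.Agent.H59.CIT.LThreeFour
import Cfsg.Agent.H37.SmallIso

/-!
A group with 2-group involution centralisers with a socle from the list of simple such groups is the
socle itself, or has the socle `PSL₂(9)` with index two.
-/

set_option autoImplicit false
set_option linter.unusedSectionVars false
set_option linter.style.haveILetI false

namespace H22.CN.Ext

open Subgroup H11.CIT Matrix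

universe u

section matrices

variable {F : Type*} [Field F]

theorem sq_eq_trace (A : SpecialLinearGroup (Fin 2) F) :
    (A : Matrix (Fin 2) (Fin 2) F) * A =
      (A : Matrix (Fin 2) (Fin 2) F).trace • (A : Matrix (Fin 2) (Fin 2) F) - 1 := by
  have hd := A.det_coe
  rw [det_fin_two] at hd
  ext i j
  fin_cases i <;> fin_cases j <;> simp [mul_apply, Fin.sum_univ_two, trace_fin_two] <;> grind

theorem coeff_zero {A : Matrix (Fin 2) (Fin 2) F} (hA : ¬ H40.IsScalar2 A) {c d : F}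
    (h : c • A = d • (1 : Matrix (Fin 2) (Fin 2) F)) : c = 0 ∧ d = 0 := by
  have hc : c = 0 := by
    by_contra hc
    have h01 := congrFun (congrFun h 0) 1
    have h10 := congrFun (congrFun h 1) 0
    have h00 := congrFun (congrFun h 0) 0
    have h11 := congrFun (congrFun h 1) 1
    simp [hc] at h01 h10 h00 h11
    exact hA ⟨h01, h10, mul_left_cancel₀ hc (h00.trans h11.symm)⟩
  refine ⟨hc, ?_⟩
  have h00 := congrFun (congrFun h 0) 0
  simpa [hc] using h00.symm

theorem not_scalar_of_mk {A : SpecialLinearGroup (Fin 2) F}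
    (hA : (QuotientGroup.mk A : ProjectiveSpecialLinearGroup (Fin 2) F) ≠ 1) :
    ¬ H40.IsScalar2 (A : Matrix (Fin 2) (Fin 2) F) := by
  rintro ⟨h01, h10, h00⟩
  have hd := A.det_coe
  rw [det_fin_two, h01, h10, ← h00, mul_zero, sub_zero] at hd
  apply hA
  rw [← QuotientGroup.mk_one, H89.psl2_eq_iff]
  rcases mul_self_eq_one_iff.1 hd with h | h
  · left; ext i j; fin_cases i <;> fin_cases j <;> simp [h01, h10, ← h00, h]
  · right; ext i j; fin_cases i <;> fin_cases j <;> simp [h01, h10, ← h00, h]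

/-- The negative of a matrix of determinant one. -/
def negSL (A : SpecialLinearGroup (Fin 2) F) : SpecialLinearGroup (Fin 2) F :=
  ⟨-(A : Matrix (Fin 2) (Fin 2) F), by rw [det_neg, A.2]; simp⟩

theorem mk_negSL (A : SpecialLinearGroup (Fin 2) F) :
    (QuotientGroup.mk (negSL A) : ProjectiveSpecialLinearGroup (Fin 2) F) = QuotientGroup.mk A :=
  (H89.psl2_eq_iff _ _).2 (Or.inr rfl)

theorem trace_negSL (A : SpecialLinearGroup (Fin 2) F) :
    (negSL A : Matrix (Fin 2) (Fin 2) F).trace = -(A : Matrix (Fin 2) (Fin 2) F).trace :=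
  trace_neg _

/-- Lifts of elements of order three have trace `-1` up to sign. -/
theorem lift_three {x : ProjectiveSpecialLinearGroup (Fin 2) F} (hx : x ≠ 1) (h3 : x * x * x = 1) :
    ∃ A : SpecialLinearGroup (Fin 2) F, QuotientGroup.mk A = x ∧
      ¬ H40.IsScalar2 (A : Matrix (Fin 2) (Fin 2) F) ∧
      (A : Matrix (Fin 2) (Fin 2) F).trace = -1 := by
  obtain ⟨A, rfl⟩ := QuotientGroup.mk_surjective x
  have hA := not_scalar_of_mk hx
  rw [← QuotientGroup.mk_mul, ← QuotientGroup.mk_mul, ← QuotientGroup.mk_one, H89.psl2_eq_iff] at h3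
  simp only [Matrix.SpecialLinearGroup.coe_mul, Matrix.SpecialLinearGroup.coe_one] at h3
  set M := (A : Matrix (Fin 2) (Fin 2) F) with hM
  have hMM : M * M = M.trace • M - 1 := sq_eq_trace A
  set t := M.trace with ht
  have h : M * M * M = (t * t - 1) • M - t • 1 := by
    rw [hMM, sub_mul, smul_mul_assoc, one_mul, hMM]
    module
  rw [h] at h3
  rcases h3 with h3 | h3
  · have h4 : (t * t - 1) • M = (t + 1) • (1 : Matrix (Fin 2) (Fin 2) F) := by
      rw [sub_eq_iff_eq_add] at h3; rw [h3]; module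
    obtain ⟨-, h5⟩ := coeff_zero hA h4
    exact ⟨A, rfl, hA, eq_neg_of_add_eq_zero_left h5⟩
  · have h4 : (t * t - 1) • M = (t - 1) • (1 : Matrix (Fin 2) (Fin 2) F) := by
      rw [sub_eq_iff_eq_add] at h3; rw [h3]; module
    obtain ⟨-, h5⟩ := coeff_zero hA h4
    refine ⟨negSL A, mk_negSL A, fun hs => hA ?_, by rw [trace_negSL]; exact congrArg Neg.neg (sub_eq_zero.1 h5)⟩
    obtain ⟨a, b, c⟩ := hs
    exact ⟨neg_eq_zero.1 a, neg_eq_zero.1 b, neg_inj.1 c⟩

/-- Traces of lifts of elements of order five. -/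
theorem lift_five {x : ProjectiveSpecialLinearGroup (Fin 2) F} (hx : x ≠ 1) (h5 : x ^ 5 = 1) :
    ∃ A : SpecialLinearGroup (Fin 2) F, QuotientGroup.mk A = x ∧
      ¬ H40.IsScalar2 (A : Matrix (Fin 2) (Fin 2) F) ∧
      (A : Matrix (Fin 2) (Fin 2) F).trace * (A : Matrix (Fin 2) (Fin 2) F).trace +
        (A : Matrix (Fin 2) (Fin 2) F).trace - 1 = 0 := by
  obtain ⟨A, rfl⟩ := QuotientGroup.mk_surjective x
  have hA := not_scalar_of_mk hx
  rw [pow_succ, pow_succ, pow_succ, pow_two, ← QuotientGroup.mk_mul, ← QuotientGroup.mk_mul,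
    ← QuotientGroup.mk_mul, ← QuotientGroup.mk_mul, ← QuotientGroup.mk_one,
    H89.psl2_eq_iff] at h5
  simp only [Matrix.SpecialLinearGroup.coe_mul, Matrix.SpecialLinearGroup.coe_one] at h5
  set M := (A : Matrix (Fin 2) (Fin 2) F) with hM
  have hMM : M * M = M.trace • M - 1 := sq_eq_trace A
  set t := M.trace with ht
  have h3 : M * M * M = (t * t - 1) • M - t • 1 := by
    rw [hMM, sub_mul, smul_mul_assoc, one_mul, hMM]
    module
  have h4 : M * M * M * M = (t * t * t - 2 * t) • M - (t * t - 1) • 1 := by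
    rw [h3, sub_mul, smul_mul_assoc, smul_mul_assoc, one_mul, hMM]
    module
  have h : M * M * M * M * M =
      (t * t * t * t - 3 * t * t + 1) • M - (t * t * t - 2 * t) • 1 := by
    rw [h4, sub_mul, smul_mul_assoc, smul_mul_assoc, one_mul, hMM]
    module
  rw [h] at h5
  rcases h5 with h5 | h5
  · have h6 : (t * t * t * t - 3 * t * t + 1) • M =
        (t * t * t - 2 * t + 1) • (1 : Matrix (Fin 2) (Fin 2) F) := by
      rw [sub_eq_iff_eq_add] at h5; rw [h5]; module
    obtain ⟨e1, e2⟩ := coeff_zero hA h6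
    refine ⟨A, rfl, hA, ?_⟩
    by_contra hne
    have : t = 1 := sub_eq_zero.1 ((mul_eq_zero.1 (show (t - 1) * (t * t + t - 1) = 0 by
      linear_combination e2)).resolve_right hne)
    rw [this] at e1
    norm_num at e1
  · have h6 : (t * t * t * t - 3 * t * t + 1) • M =
        (t * t * t - 2 * t - 1) • (1 : Matrix (Fin 2) (Fin 2) F) := by
      rw [sub_eq_iff_eq_add] at h5; rw [h5]; module
    obtain ⟨e1, e2⟩ := coeff_zero hA h6
    refine ⟨negSL A, mk_negSL A, fun hs => hA ?_, ?_⟩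
    · obtain ⟨a, b, c⟩ := hs
      exact ⟨neg_eq_zero.1 a, neg_eq_zero.1 b, neg_inj.1 c⟩
    · rw [trace_negSL, ← hM, ← ht]
      by_contra hne
      have : t = -1 := eq_neg_of_add_eq_zero_left ((mul_eq_zero.1
        (show (t + 1) * (-t * -t + -t - 1) = 0 by linear_combination e2)).resolve_right hne)
      rw [this] at e1
      norm_num at e1

theorem isConj_mk_of_trace [Finite F] {A B : SpecialLinearGroup (Fin 2) F}
    (hA : ¬ H40.IsScalar2 (A : Matrix (Fin 2) (Fin 2) F))
    (hB : ¬ H40.IsScalar2 (B : Matrix (Fin 2) (Fin 2) F))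
    (ht : (A : Matrix (Fin 2) (Fin 2) F).trace = (B : Matrix (Fin 2) (Fin 2) F).trace)
    (hD : (A : Matrix (Fin 2) (Fin 2) F).trace ^ 2 ≠ 4) :
    IsConj (QuotientGroup.mk A : ProjectiveSpecialLinearGroup (Fin 2) F) (QuotientGroup.mk B) :=
  (QuotientGroup.mk' _).map_isConj (H40.isConj_SL2_of_trace hA hB ht (Or.inl hD))

end matrices

variable {X : Type u} [Group X] [Finite X]

theorem conj_in (N : Subgroup X) {L : Type*} [Group L] (e : N ≃* L) (a b : N)
    (h : IsConj (e a) (e b)) : ∃ n ∈ N, n * (a : X) * n⁻¹ = b := by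
  obtain ⟨s, hs⟩ := isConj_iff.1 h
  refine ⟨(e.symm s : N), (e.symm s).2, ?_⟩
  have := congrArg (fun y => ((e.symm y : N) : X)) hs
  simpa using this

/-- One class of involutions in the socle: the quotient is a 2-group. -/
theorem quotient_two_group (hX : IsCIT X) (N : Subgroup X) [N.Normal] {t : X} (ht : orderOf t = 2)
    (hcls : ∀ g : X, ∃ n ∈ N, n * t * n⁻¹ = g * t * g⁻¹) : IsPGroup 2 (X ⧸ N) := by
  intro x
  obtain ⟨g, rfl⟩ := QuotientGroup.mk_surjective x
  obtain ⟨n, hn, h⟩ := hcls g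
  have hc : n⁻¹ * g ∈ centralizer ({t} : Set X) := mem_cent.2 (by
    calc n⁻¹ * g * t = n⁻¹ * (g * t * g⁻¹) * g := by group
      _ = n⁻¹ * (n * t * n⁻¹) * g := by rw [h]
      _ = t * (n⁻¹ * g) := by group)
  obtain ⟨k, hk⟩ := hX t ht ⟨_, hc⟩
  refine ⟨k, ?_⟩
  have hk' : (n⁻¹ * g) ^ (2 ^ k) = 1 := congrArg Subtype.val hk
  have := congrArg (QuotientGroup.mk' N) hk'
  rw [map_pow, map_one, map_mul, show QuotientGroup.mk' N n⁻¹ = 1 from
    (QuotientGroup.eq_one_iff _).2 (inv_mem hn), one_mul] at this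
  exact this

/-- An element normalising the class of an odd element of the socle lies in the socle. -/
theorem mem_of_class (hX : IsCIT X) (N : Subgroup X) [N.Normal] (h2 : IsPGroup 2 (X ⧸ N))
    {w : X} (hw : Odd (orderOf w)) (hw1 : w ≠ 1) {g n : X} (hn : n ∈ N)
    (h : n * w * n⁻¹ = g * w * g⁻¹) : g ∈ N := by
  haveI : Fact (Nat.Prime 2) := ⟨Nat.prime_two⟩
  set c := n⁻¹ * g with hc
  have hcw : Commute w c := by
    show w * (n⁻¹ * g) = n⁻¹ * g * w
    calc w * (n⁻¹ * g) = n⁻¹ * (n * w * n⁻¹) * g := by group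
      _ = n⁻¹ * (g * w * g⁻¹) * g := by rw [h]
      _ = n⁻¹ * g * w := by group
  obtain ⟨a, b, hb, ho⟩ := Nat.exists_eq_two_pow_mul_odd (orderOf_pos c).ne'
  have hb0 : b ≠ 0 := by rintro rfl; exact absurd hb (by decide)
  have h1 : orderOf (c ^ b) = 2 ^ a := by
    rw [orderOf_pow' _ hb0, ho, Nat.gcd_eq_right (dvd_mul_left b _),
      Nat.mul_div_cancel _ (Nat.pos_of_ne_zero hb0)]
  have h3 : c ^ b = 1 := hX.fpf hw hw1 h1 (hcw.pow_right b).eq
  have h4 : (QuotientGroup.mk' N c) ^ b = 1 := by rw [← map_pow, h3, map_one]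
  obtain ⟨k, hk⟩ := IsPGroup.iff_orderOf.1 h2 (QuotientGroup.mk' N c)
  have h5 : QuotientGroup.mk' N c = 1 := orderOf_eq_one_iff.1 (Nat.eq_one_of_dvd_coprimes
    (Nat.Coprime.pow_left k (Nat.coprime_two_left.2 hb)) (hk ▸ dvd_rfl)
    (orderOf_dvd_of_pow_eq_one h4))
  have h6 : c ∈ N := (QuotientGroup.eq_one_iff c).1 h5
  have := mul_mem hn h6
  rwa [hc, mul_inv_cancel_left] at this

theorem orderOf_conjN (N : Subgroup X) [N.Normal] (g : X) (a : N) :
    orderOf (MulAut.conjNormal g a : N) = orderOf a := MulEquiv.orderOf_eq _ a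

variable {E : Type} [Field E] [Fintype E]

theorem quotient_two_psl_odd (hX : IsCIT X) (N : Subgroup X) [N.Normal]
    (e : N ≃* ProjectiveSpecialLinearGroup (Fin 2) E) (h2 : (2 : E) ≠ 0)
    (hev : 2 ∣ Nat.card N) : IsPGroup 2 (X ⧸ N) := by
  haveI : Fact (Nat.Prime 2) := ⟨Nat.prime_two⟩
  obtain ⟨t, ht⟩ := exists_prime_orderOf_dvd_card' (G := N) 2 hev
  refine quotient_two_group hX N (t := (t : X)) (by rwa [orderOf_coe]) fun g => ?_
  have inv : ∀ a : N, orderOf a = 2 → ∃ s, s * H89.zEl * s⁻¹ = e a := fun a ha => by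
    have h : orderOf (e a) = 2 := by rw [MulEquiv.orderOf_eq, ha]
    exact H89.exists_conj_zEl h2 (fun h1 => by rw [h1, orderOf_one] at h; omega)
      (H11.CIT.sq_eq_one h)
  obtain ⟨s1, hs1⟩ := inv t ht
  obtain ⟨s2, hs2⟩ := inv (MulAut.conjNormal g t) (by rw [orderOf_conjN, ht])
  obtain ⟨n, hn, h⟩ := conj_in N e t (MulAut.conjNormal g t)
    ((isConj_iff.2 ⟨s1, hs1⟩).symm.trans (isConj_iff.2 ⟨s2, hs2⟩))
  exact ⟨n, hn, by rw [h, MulAut.conjNormal_apply]⟩

/-- `PSL₂(p)` with `p ≥ 5` is the whole group. -/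
theorem top_psl_prime (hX : IsCIT X) (N : Subgroup X) [N.Normal]
    (e : N ≃* ProjectiveSpecialLinearGroup (Fin 2) E) (h2 : (2 : E) ≠ 0) (h3 : (3 : E) ≠ 0)
    (hev : 2 ∣ Nat.card N) : N = ⊤ := by
  haveI : Fact (Nat.Prime 3) := ⟨Nat.prime_three⟩
  have hq := quotient_two_psl_odd hX N e h2 hev
  obtain ⟨w, hw⟩ := exists_prime_orderOf_dvd_card' (G := N) 3
    (Nat.card_congr e.toEquiv ▸ H28.CITGraph.three_dvd_psl2)
  refine eq_top_iff.2 fun g _ => ?_
  have lift : ∀ a : N, orderOf a = 3 → ∃ A : SpecialLinearGroup (Fin 2) E,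
      QuotientGroup.mk A = e a ∧ ¬ H40.IsScalar2 (A : Matrix (Fin 2) (Fin 2) E) ∧
      (A : Matrix (Fin 2) (Fin 2) E).trace = -1 := fun a ha => by
    have h : orderOf (e a) = 3 := by rw [MulEquiv.orderOf_eq, ha]
    refine lift_three (fun h1 => by rw [h1, orderOf_one] at h; omega) ?_
    have h' := pow_orderOf_eq_one (e a)
    rwa [h, pow_succ, pow_two] at h'
  obtain ⟨A, hA, hAs, hAt⟩ := lift w hw
  obtain ⟨B, hB, hBs, hBt⟩ := lift (MulAut.conjNormal g w) (by rw [orderOf_conjN, hw])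
  have hconj : IsConj (e w) (e (MulAut.conjNormal g w)) := by
    rw [← hA, ← hB]
    refine isConj_mk_of_trace hAs hBs (by rw [hAt, hBt]) ?_
    rw [hAt]
    intro h
    exact h3 (by linear_combination -h)
  obtain ⟨n, hn, h⟩ := conj_in N e w _ hconj
  refine mem_of_class hX N hq (w := (w : X)) ?_ ?_ hn (by rw [h, MulAut.conjNormal_apply])
  · rw [orderOf_coe, hw]; decide
  · rw [ne_eq, OneMemClass.coe_eq_one]; intro h1; rw [h1, orderOf_one] at hw; omega

/-- `PSL₂(9)` has index at most two. -/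
theorem index_psl_nine (hX : IsCIT X) (N : Subgroup X) [N.Normal]
    (e : N ≃* ProjectiveSpecialLinearGroup (Fin 2) E) (hE : Fintype.card E = 9) :
    N = ⊤ ∨ N.index = 2 := by
  haveI : Fact (Nat.Prime 5) := ⟨by norm_num⟩
  have hp : ringChar E = 3 := by
    haveI := ringChar.charP E
    obtain ⟨n, hp, hn⟩ := FiniteField.card E (ringChar E)
    rw [hE] at hn
    have : ringChar E ∣ 3 ^ 2 := by rw [show (3 : ℕ) ^ 2 = 9 by norm_num, hn]; exact dvd_pow_self _ n.pos.ne'
    exact (Nat.prime_dvd_prime_iff_eq hp Nat.prime_three).1 (hp.dvd_of_dvd_pow this)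
  haveI : CharP E 3 := hp ▸ ringChar.charP E
  have h3 : (3 : E) = 0 := by exact_mod_cast CharP.cast_eq_zero E 3
  have h2 : (2 : E) ≠ 0 := fun h => one_ne_zero (by linear_combination h3 - h : (1 : E) = 0)
  have hc : Nat.card N = 360 := by
    have h := H39.card_PSL2_mul (F := E)
    rw [hE] at h
    norm_num at h
    rw [Nat.card_congr e.toEquiv]
    omega
  have hq := quotient_two_psl_odd hX N e h2 (by rw [hc]; norm_num)
  obtain ⟨w, hw⟩ := exists_prime_orderOf_dvd_card' (G := N) 5 (by rw [hc]; norm_num)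
  have lift : ∀ a : N, orderOf a = 5 → ∃ A : SpecialLinearGroup (Fin 2) E,
      QuotientGroup.mk A = e a ∧ ¬ H40.IsScalar2 (A : Matrix (Fin 2) (Fin 2) E) ∧
      (A : Matrix (Fin 2) (Fin 2) E).trace * (A : Matrix (Fin 2) (Fin 2) E).trace +
        (A : Matrix (Fin 2) (Fin 2) E).trace - 1 = 0 := fun a ha => by
    have h : orderOf (e a) = 5 := by rw [MulEquiv.orderOf_eq, ha]
    exact lift_five (fun h1 => by rw [h1, orderOf_one] at h; omega) (h ▸ pow_orderOf_eq_one _)
  obtain ⟨A, hA, hAs, hAt⟩ := lift w hw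
  set t := (A : Matrix (Fin 2) (Fin 2) E).trace with ht
  have hD : ∀ r : E, r * r + r - 1 = 0 → r ^ 2 ≠ 4 := fun r hr h => by
    have h1 : r * r = 1 := by linear_combination h + h3
    have h4 : r = 0 := by linear_combination hr - h1
    rw [h4] at h1
    simp at h1
  have hw5 : (w : X) ^ 5 = 1 := by
    rw [← SubmonoidClass.coe_pow, ← hw, pow_orderOf_eq_one, OneMemClass.coe_one]
  -- conjugates of `w` are conjugate to `w` or to its square
  have two : ∀ g : X, g ∉ N → ∃ n ∈ N, g * (w : X) * g⁻¹ = n * (w : X) ^ 2 * n⁻¹ := by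
    intro g hg
    obtain ⟨B, hB, hBs, hBt⟩ := lift (MulAut.conjNormal g w) (by rw [orderOf_conjN, hw])
    set s := (B : Matrix (Fin 2) (Fin 2) E).trace with hs
    have hst : (s - t) * (s + t + 1) = 0 := by linear_combination hBt - hAt
    rcases mul_eq_zero.1 hst with h | h
    · exfalso
      obtain ⟨n, hn, h'⟩ := conj_in N e w (MulAut.conjNormal g w) (by
        rw [← hA, ← hB]
        exact isConj_mk_of_trace hAs hBs (sub_eq_zero.1 h).symm (hD t hAt))
      refine hg (mem_of_class hX N hq (w := (w : X)) ?_ ?_ hn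
        (by rw [h', MulAut.conjNormal_apply]))
      · rw [orderOf_coe, hw]; decide
      · rw [ne_eq, OneMemClass.coe_eq_one]; intro h1; rw [h1, orderOf_one] at hw; omega
    · have hAA : ((A * A : SpecialLinearGroup (Fin 2) E) : Matrix (Fin 2) (Fin 2) E).trace = s := by
        rw [Matrix.SpecialLinearGroup.coe_mul, sq_eq_trace, trace_sub, trace_smul, trace_one,
          ← ht, smul_eq_mul, Fintype.card_fin]
        push_cast
        linear_combination hAt - h
      have hAAs : ¬ H40.IsScalar2 ((A * A : SpecialLinearGroup (Fin 2) E) : Matrix (Fin 2) (Fin 2) E) := by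
        refine not_scalar_of_mk ?_
        rw [QuotientGroup.mk_mul, hA, ← map_mul, ne_eq, MulEquiv.map_eq_one_iff, ← sq]
        intro h1
        have := orderOf_dvd_of_pow_eq_one h1
        rw [hw] at this
        norm_num at this
      obtain ⟨n, hn, h'⟩ := conj_in N e (w * w) (MulAut.conjNormal g w) (by
        rw [map_mul, ← hA, ← hB, ← QuotientGroup.mk_mul]
        exact isConj_mk_of_trace hAAs hBs hAA (by rw [hAA]; exact hD s hBt))
      refine ⟨n, hn, ?_⟩
      rw [pow_two, ← MulAut.conjNormal_apply, ← h', Subgroup.coe_mul]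
  -- the inverse is conjugate to `w`
  obtain ⟨m, hm, hinv⟩ := conj_in N e w w⁻¹ (by
    rw [map_inv, ← hA, ← QuotientGroup.mk_inv]
    refine isConj_mk_of_trace hAs ?_ ?_ (hD t hAt)
    · refine not_scalar_of_mk ?_
      rw [QuotientGroup.mk_inv, hA, ne_eq, inv_eq_one, MulEquiv.map_eq_one_iff]
      intro h1; rw [h1, orderOf_one] at hw; omega
    · rw [Matrix.SpecialLinearGroup.coe_inv, adjugate_fin_two, trace_fin_two_of, trace_fin_two,
        add_comm])
  rw [InvMemClass.coe_inv] at hinv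
  have prod : ∀ a b : X, a ∉ N → b ∉ N → a * b ∈ N := by
    intro a b ha hb
    obtain ⟨n1, hn1, h1⟩ := two a ha
    obtain ⟨n2, hn2, h2'⟩ := two b hb
    refine mem_of_class hX N hq (w := (w : X)) ?_ ?_
      (n := a * n2 * a⁻¹ * n1 * m) ?_ ?_
    · rw [orderOf_coe, hw]; decide
    · rw [ne_eq, OneMemClass.coe_eq_one]; intro h1; rw [h1, orderOf_one] at hw; omega
    · exact mul_mem (mul_mem ((inferInstance : N.Normal).conj_mem n2 hn2 a) hn1) hm
    have h4 : (w : X) ^ 2 * (w : X) ^ 2 = (w : X)⁻¹ := by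
      rw [← pow_add]; exact eq_inv_of_mul_eq_one_left (by rw [← pow_succ]; exact hw5)
    calc a * n2 * a⁻¹ * n1 * m * (w : X) * (a * n2 * a⁻¹ * n1 * m)⁻¹
        = a * n2 * a⁻¹ * (n1 * (m * w * m⁻¹) * n1⁻¹) * (a * n2⁻¹ * a⁻¹) := by group
      _ = a * n2 * a⁻¹ * (n1 * ((w : X) ^ 2 * (w : X) ^ 2) * n1⁻¹) * (a * n2⁻¹ * a⁻¹) := by
          rw [hinv, h4]
      _ = a * n2 * a⁻¹ * ((n1 * (w : X) ^ 2 * n1⁻¹) * (n1 * (w : X) ^ 2 * n1⁻¹)) *
            (a * n2⁻¹ * a⁻¹) := by group
      _ = a * (n2 * (w : X) ^ 2 * n2⁻¹) * a⁻¹ := by rw [← h1, pow_two]; group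
      _ = a * b * w * (a * b)⁻¹ := by rw [← h2']; group
  by_cases hall : ∀ g : X, g ∈ N
  · exact Or.inl (eq_top_iff.2 fun g _ => hall g)
  push Not at hall
  obtain ⟨a, ha⟩ := hall
  refine Or.inr (index_eq_two_iff.2 ⟨a, fun b => ?_⟩)
  by_cases hb : b ∈ N
  · exact Or.inr ⟨hb, fun h => ha ((mul_mem_cancel_left hb).1 h)⟩
  · exact Or.inl ⟨prod b a hb ha, hb⟩

/-- `PSL₃(4)` is the whole group. -/
theorem top_psl34 (hX : IsCIT X) (N : Subgroup X) [N.Normal]
    (e : N ≃* ProjectiveSpecialLinearGroup (Fin 3) E) (hE : Fintype.card E = 4) : N = ⊤ := by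
  classical
  haveI : Fact (Nat.Prime 3) := ⟨Nat.prime_three⟩
  haveI : Fact (Nat.Prime 2) := ⟨Nat.prime_two⟩
  have hcN : Nat.card N = 20160 := (Nat.card_congr e.toEquiv).trans (H39.L34.card_psl34 hE)
  -- the quotient is a 2-group
  obtain ⟨t, ht⟩ := exists_prime_orderOf_dvd_card' (G := N) 2 (by rw [hcN]; norm_num)
  have hq : IsPGroup 2 (X ⧸ N) := by
    refine quotient_two_group hX N (t := (t : X)) (by rwa [orderOf_coe]) fun g => ?_
    obtain ⟨n, hn, h⟩ := conj_in N e t (MulAut.conjNormal g t)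
      (H37.isConj_involutions_PSL34 hE _ _ (by rw [MulEquiv.orderOf_eq, ht])
        (by rw [MulEquiv.orderOf_eq, orderOf_conjN, ht]))
    exact ⟨n, hn, by rw [h, MulAut.conjNormal_apply]⟩
  obtain ⟨P, hP, -, -, h8⟩ := H59.CIT.psl34_three hE
  set P₁ : Subgroup N := P.map e.symm.toMonoidHom with hP₁
  have hP₁c : Nat.card P₁ = 3 ^ 2 := by
    rw [hP₁, card_map_of_injective (K := P) (f := e.symm.toMonoidHom) e.symm.injective, hP]
    norm_num
  obtain ⟨S, hS⟩ := (IsPGroup.of_card hP₁c).exists_le_sylow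
  obtain ⟨k, hk⟩ := IsPGroup.iff_card.1 S.isPGroup'
  have hk2 : k ≤ 2 := by
    by_contra hc
    have h1 : 3 ^ 3 ∣ Nat.card N :=
      (pow_dvd_pow 3 (by omega : 3 ≤ k)).trans (hk ▸ Subgroup.card_subgroup_dvd_card _)
    rw [hcN] at h1
    norm_num at h1
  have hSP : P₁ = S := Subgroup.eq_of_le_of_card_ge hS (by
    rw [hP₁c, hk]; exact Nat.pow_le_pow_right (by norm_num) hk2)
  set P' : Subgroup X := (S : Subgroup N).map N.subtype with hP'
  have hfr := Sylow.normalizer_sup_eq_top S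
  rw [← hP'] at hfr
  set Q := normalizer (P' : Set X) with hQ
  let f : Q →* X ⧸ N := (QuotientGroup.mk' N).comp Q.subtype
  have hf : Function.Surjective f := by
    intro y
    obtain ⟨x, rfl⟩ := QuotientGroup.mk'_surjective N y
    obtain ⟨a, ha, n, hn, rfl⟩ :=
      Subgroup.mem_sup_of_normal_right.1 (hfr ▸ mem_top x : x ∈ Q ⊔ N)
    exact ⟨⟨a, ha⟩, by
      show QuotientGroup.mk' N a = QuotientGroup.mk' N (a * n)
      rw [map_mul, show QuotientGroup.mk' N n = 1 from (QuotientGroup.eq_one_iff n).2 hn, mul_one]⟩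
  set M := normalizer (P : Set (ProjectiveSpecialLinearGroup (Fin 3) E))
  have hmemP : ∀ x : N, (x : X) ∈ P' ↔ e x ∈ P := fun x => by
    rw [hP']
    show N.subtype x ∈ _ ↔ _
    rw [mem_map_iff_mem N.subtype_injective, ← hSP, hP₁]
    constructor
    · rintro ⟨p, hp, rfl⟩; simpa using hp
    · exact fun h => ⟨e x, h, e.symm_apply_apply x⟩
  have hle : ∀ m ∈ M, ((e.symm m : N) : X) ∈ Q := by
    intro m hm
    rw [hQ, mem_normalizer_iff]
    intro x
    by_cases hx : x ∈ N
    · have := hmemP ⟨x, hx⟩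
      have h' := hmemP (e.symm m * ⟨x, hx⟩ * (e.symm m)⁻¹)
      rw [map_mul, map_mul, map_inv, e.apply_symm_apply] at h'
      rw [show x = ((⟨x, hx⟩ : N) : X) from rfl, this]
      refine Iff.trans ?_ h'.symm
      exact mem_normalizer_iff.1 hm _
    · refine iff_of_false (fun h => hx ?_) (fun h => hx ?_)
      · exact map_subtype_le _ h
      · have h1 := (inferInstance : N.Normal).conj_mem _ (map_subtype_le _ h)
          ((e.symm m : N) : X)⁻¹
        simpa [mul_assoc] using h1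
  let j : M →* f.ker :=
    { toFun := fun m => ⟨⟨((e.symm (m : ProjectiveSpecialLinearGroup (Fin 3) E) : N) : X),
        hle _ m.2⟩, (QuotientGroup.eq_one_iff _).2 (e.symm _).2⟩
      map_one' := Subtype.ext (Subtype.ext (by simp))
      map_mul' := fun a b => Subtype.ext (Subtype.ext (by simp)) }
  have hj : Function.Injective j := fun a b h => Subtype.ext
    (e.symm.injective (Subtype.ext (congrArg (fun z : f.ker => ((z : Q) : X)) h)))
  obtain ⟨a, ha⟩ := IsPGroup.iff_card.1 hq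
  have hdiv : 2 ^ (a + 3) ∣ Nat.card Q := by
    rw [Subgroup.card_eq_card_quotient_mul_card_subgroup f.ker,
      Nat.card_congr (QuotientGroup.quotientKerEquivOfSurjective f hf).toEquiv, ha, pow_add]
    exact mul_dvd_mul_left _ ((by norm_num : 2 ^ 3 = 8) ▸ h8.trans (card_dvd_of_injective j hj))
  obtain ⟨T, hT⟩ := Sylow.exists_subgroup_card_pow_prime 2 hdiv
  obtain ⟨⟨p₀, hp₀⟩, hp₀1⟩ : ∃ p : P', p ≠ 1 := by
    haveI : Nontrivial P' := by
      rw [← Finite.one_lt_card_iff_nontrivial, hP', card_map_of_injective N.subtype_injective, hk]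
      refine Nat.one_lt_pow ?_ (by norm_num)
      rintro rfl
      rw [← hSP, hP₁c] at hk
      norm_num at hk
    exact exists_ne 1
  have hp₀1' : p₀ ≠ 1 := fun h => hp₀1 (Subtype.ext h)
  have hp₀o : Odd (orderOf p₀) := by
    obtain ⟨i, hi⟩ := IsPGroup.iff_orderOf.1 (S.isPGroup'.map N.subtype) ⟨p₀, hp₀⟩
    rw [orderOf_mk] at hi
    rw [hi]
    exact (by decide : Odd 3).pow
  let φ : Option T → P' := fun o => o.elim 1 fun s =>
    ⟨((s : Q) : X) * p₀ * ((s : Q) : X)⁻¹, (mem_normalizer_iff.1 (s : Q).2 p₀).1 hp₀⟩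
  have hφ : Function.Injective φ := by
    rintro (_ | r) (_ | s) h
    · rfl
    · exact absurd (congrArg Subtype.val h).symm (by simpa [φ] using hp₀1')
    · exact absurd (congrArg Subtype.val h) (by simpa [φ] using hp₀1')
    · have h' : ((r : Q) : X) * p₀ * ((r : Q) : X)⁻¹ = ((s : Q) : X) * p₀ * ((s : Q) : X)⁻¹ :=
        congrArg Subtype.val h
      obtain ⟨i, hi⟩ := IsPGroup.iff_orderOf.1 (IsPGroup.of_card hT) (r⁻¹ * s)
      have h1 : ((r⁻¹ * s : T) : X) = 1 := by
        refine hX.fpf hp₀o hp₀1' (k := i) ?_ ?_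
        · rw [orderOf_coe, orderOf_coe, hi]
        · show p₀ * (((r : Q) : X)⁻¹ * ((s : Q) : X)) = ((r : Q) : X)⁻¹ * ((s : Q) : X) * p₀
          calc p₀ * (((r : Q) : X)⁻¹ * ((s : Q) : X))
              = ((r : Q) : X)⁻¹ * (((r : Q) : X) * p₀ * ((r : Q) : X)⁻¹) * ((s : Q) : X) := by group
            _ = ((r : Q) : X)⁻¹ * (((s : Q) : X) * p₀ * ((s : Q) : X)⁻¹) * ((s : Q) : X) := by
                rw [h']
            _ = _ := by group
      have h2 : r⁻¹ * s = 1 := Subtype.ext (Subtype.ext h1)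
      rw [inv_mul_eq_one.1 h2]
  have hle' := Nat.card_le_card_of_injective φ hφ
  rw [Finite.card_option, hT, hP', card_map_of_injective N.subtype_injective, ← hSP, hP₁c] at hle'
  have ha0 : a = 0 := by
    by_contra hc
    have : 2 ^ 4 ≤ 2 ^ (a + 3) := Nat.pow_le_pow_right two_pos (by omega)
    omega
  rw [ha0, pow_zero] at ha
  exact index_eq_one.1 (by rw [index_eq_card, ha])

/-- `PSL₂(3)` is not simple. -/
theorem not_simple_psl_three {F : Type*} [Field F] [Fintype F] (h3 : Fintype.card F = 3)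
    {M : Type*} [Group M] [IsSimpleGroup M] (e : M ≃* ProjectiveSpecialLinearGroup (Fin 2) F) :
    False := by
  obtain ⟨a⟩ := H37.PSL2_three_mulEquiv_alternating (F := F)
    (by rw [Nat.card_eq_fintype_card, h3])
  haveI := (e.trans a).symm.isSimpleGroup
  have hV : ∀ x y : alternatingGroup (Fin 4), x * x = 1 → y * y = 1 → x * y * (x * y) = 1 := by
    decide
  let V : Subgroup (alternatingGroup (Fin 4)) :=
    { carrier := {x | x * x = 1}
      one_mem' := one_mul 1
      mul_mem' := fun {x y} hx hy => hV x y hx hy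
      inv_mem' := fun {x} hx => by
        show x⁻¹ * x⁻¹ = 1
        rw [← _root_.mul_inv_rev, show x * x = 1 from hx, inv_one] }
  haveI : V.Normal := ⟨fun x hx g => by
    show g * x * g⁻¹ * (g * x * g⁻¹) = 1
    calc g * x * g⁻¹ * (g * x * g⁻¹) = g * (x * x) * g⁻¹ := by group
      _ = 1 := by rw [show x * x = 1 from hx, mul_one, mul_inv_cancel]⟩
  have h12 : ∃ x : alternatingGroup (Fin 4), x * x = 1 ∧ x ≠ 1 := by decide
  have h13 : ∃ x : alternatingGroup (Fin 4), x * x ≠ 1 := by decide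
  rcases (inferInstance : V.Normal).eq_bot_or_eq_top with h | h
  · obtain ⟨x, hx, hx1⟩ := h12
    exact hx1 (mem_bot.1 (h ▸ (hx : x ∈ V)))
  · obtain ⟨x, hx⟩ := h13
    exact hx (h.symm ▸ mem_top x : x ∈ V)

/-- The socle is everything, or it is `PSL₂(9)` of index two. -/
theorem socle_top (hX : IsCIT X) (N : Subgroup X) [N.Normal] [IsSimpleGroup N]
    (hC : centralizer (N : Set X) = ⊥) (hL : CITList N) :
    N = ⊤ ∨ (N.index = 2 ∧ ∃ (F : Type) (_ : Field F) (_ : Fintype F), Fintype.card F = 9 ∧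
      Nonempty (N ≃* ProjectiveSpecialLinearGroup (Fin 2) F)) := by
  have char2 : ∀ (F : Type) (_ : Field F) (_ : Fintype F) (n : ℕ), Fintype.card F = 2 ^ n →
      (N ≃* ProjectiveSpecialLinearGroup (Fin 2) F) → N = ⊤ := by
    intro F _ _ n hn e
    haveI := H28.CITGraph.charTwo_of_card hn
    obtain ⟨u, hu, hfix⟩ := H28.CITGraph.psl2_aut_fix (F := F)
    exact H28.CITGraph.eq_top_of_aut hX N hC e hu fun α => by
      obtain ⟨s, h1, w, hw⟩ := hfix α
      exact ⟨s, h1, Or.inl ⟨w, hw⟩⟩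
  rcases hL with ⟨F, iF, jF, hF, ⟨e⟩⟩ | ⟨F, iF, jF, hF, ⟨e⟩⟩ | ⟨F, iF, jF, m, hm, hF, ⟨e⟩⟩
  · rcases hF with h9 | ⟨n, hn⟩ | ⟨hp, k, hk⟩
    · exact (index_psl_nine hX N e h9).imp_right fun h => ⟨h, F, iF, jF, h9, ⟨e⟩⟩
    · exact Or.inl (char2 F iF jF n hn e)
    · left
      by_cases hp2 : Fintype.card F = 2
      · exact char2 F iF jF 1 (by rw [hp2, pow_one]) e
      haveI := Fact.mk hp
      haveI : CharP F (Fintype.card F) := by
        obtain ⟨n, hq, hn⟩ := FiniteField.card F (ringChar F)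
        have : ringChar F = Fintype.card F :=
          (Nat.prime_dvd_prime_iff_eq hq hp).1 (hn ▸ dvd_pow_self _ n.pos.ne')
        exact this ▸ ringChar.charP F
      have hnz : ∀ r : ℕ, r.Prime → r ≠ Fintype.card F → (r : F) ≠ 0 := fun r hr hne h =>
        hne ((Nat.prime_dvd_prime_iff_eq hp hr).1 ((CharP.cast_eq_zero_iff F _ r).1 h)).symm
      have hp3 : Fintype.card F ≠ 3 := by
        intro h3
        exact not_simple_psl_three h3 e
      refine top_psl_prime hX N e (hnz 2 Nat.prime_two (Ne.symm hp2))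
        (hnz 3 Nat.prime_three (Ne.symm hp3)) ?_
      have hodd : Odd (Fintype.card F) := hp.odd_of_ne_two hp2
      have h := H39.card_PSL2_mul (F := F)
      rw [← Nat.card_congr e.toEquiv] at h
      by_contra hev
      have h8 : 2 ^ 3 ∣ Fintype.card F * (Fintype.card F ^ 2 - 1) :=
        dvd_mul_of_dvd_right (Nat.eight_dvd_sq_sub_one_of_odd hodd) _
      rw [← h] at h8
      have h9 := ((Nat.prime_two.coprime_iff_not_dvd.2 hev).pow_left 3).dvd_of_dvd_mul_right h8
      have := Nat.le_of_dvd (Nat.gcd_pos_of_pos_left _ two_pos) h9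
      have := Nat.le_of_dvd two_pos (Nat.gcd_dvd_left 2 (Fintype.card F - 1))
      omega
  · exact Or.inl (top_psl34 hX N e hF)
  · left
    obtain ⟨u, hu, hfix⟩ := H28.CITGraph.sz_aut_fix hm hF
    exact H28.CITGraph.eq_top_of_aut hX N hC (e.trans (H57.lieSzEquiv hm hF).symm) hu fun α => by
      obtain ⟨s, h1, w, hw⟩ := hfix α
      exact ⟨s, h1, Or.inl ⟨w, hw⟩⟩

end H22.CN.Ext
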