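import Cfsg.Agent.H22.CN.Ext.OddModule
import Cfsg.Agent.H22.CN.Ext.Socle
import Cfsg.Agent.H22.CN.Sz.Sections
import Cfsg.Agent.H21.HalfPrincipal

/-!
Simple quotients by a non-trivial normal 2-subgroup in a group with 2-group involution centralisers:
`PSL₂(2ⁿ)` and the Suzuki groups.
-/

set_option autoImplicit false
set_option linter.unusedSectionVars false
set_option linter.unusedSimpArgs false
set_option linter.style.haveILetI false

namespace H22.CN.Ext

open Subgroup H11.CIT Matrix

universe u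

variable {G : Type u} [Group G] [Finite G]

theorem oddFpf_of_cit (hG : IsCIT G) {Q : Subgroup G} (hQ : IsPGroup 2 Q) : Sz.OddFpf Q :=
  fun _ hg hodd _ hq h => hG.fpf' hQ (Nat.odd_iff.2 (Nat.two_dvd_ne_zero.1 hodd)) hg hq
    (mul_inv_eq_iff_eq_mul.1 h)

/-- The quotient acts on a non-trivial elementary abelian 2-group, odd elements fixed-point-freely. -/
theorem exists_module (hG : IsCIT G) (Q : Subgroup G) [Q.Normal] (hQ : IsPGroup 2 Q) (hne : Q ≠ ⊥)
    {L : Type*} [Group L] (e : G ⧸ Q ≃* L) :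
    ∃ (V : Type u) (_ : AddCommGroup V) (_ : Finite V) (_ : Nontrivial V)
      (ρ : L →* AddMonoid.End V), (∀ v : V, v + v = 0) ∧ Sz.Fpf ρ := by
  haveI : Fact (Nat.Prime 2) := ⟨Nat.prime_two⟩
  let A : Subgroup G :=
    { carrier := {a | a ∈ Q ∧ a * a = 1 ∧ ∀ q ∈ Q, q * a = a * q}
      one_mem' := ⟨one_mem Q, one_mul 1, fun q _ => by rw [mul_one, one_mul]⟩
      mul_mem' := fun {a b} ⟨ha, ha2, hac⟩ ⟨hb, hb2, hbc⟩ => ⟨mul_mem ha hb, by
        rw [mul_assoc, ← mul_assoc b a b, hac b hb, mul_assoc a b b, hb2, mul_one, ha2],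
        fun q hq => by rw [← mul_assoc, hac q hq, mul_assoc, hbc q hq, mul_assoc]⟩
      inv_mem' := fun {a} ⟨ha, ha2, hac⟩ => by
        rw [inv_eq_of_mul_eq_one_right ha2]; exact ⟨ha, ha2, hac⟩ }
  haveI : A.Normal := ⟨fun a ⟨ha, ha2, hac⟩ g => ⟨(inferInstance : Q.Normal).conj_mem a ha g, by
      calc g * a * g⁻¹ * (g * a * g⁻¹) = g * (a * a) * g⁻¹ := by group
        _ = 1 := by rw [ha2, mul_one, mul_inv_cancel], fun q hq => by
      calc q * (g * a * g⁻¹) = g * ((g⁻¹ * q * g) * a) * g⁻¹ := by group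
        _ = g * (a * (g⁻¹ * q * g)) * g⁻¹ := by
            rw [hac _ (by simpa using (inferInstance : Q.Normal).conj_mem q hq g⁻¹)]
        _ = g * a * g⁻¹ * q := by group⟩⟩
  haveI : IsMulCommutative A := ⟨⟨fun a b => Subtype.ext (b.2.2.2 a a.2.1)⟩⟩
  haveI : Nontrivial A := by
    haveI : Nontrivial Q := (nontrivial_iff_ne_bot Q).2 hne
    haveI := hQ.center_nontrivial
    obtain ⟨t, ht, ht2⟩ := exists_invol (P := (Subgroup.center Q).map Q.subtype)
      ((hQ.to_subgroup _).map Q.subtype) (by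
        rw [Ne, map_eq_bot_iff_of_injective _ Q.subtype_injective]
        exact (nontrivial_iff_ne_bot _).1 inferInstance)
    obtain ⟨z, hz, rfl⟩ := ht
    refine (nontrivial_iff_ne_bot A).2 fun hA => ?_
    have hmem : (z : G) ∈ A := ⟨z.2, H11.CIT.sq_eq_one ht2, fun q hq =>
      congrArg Subtype.val (mem_center_iff.1 hz ⟨q, hq⟩)⟩
    rw [hA, mem_bot] at hmem
    rw [show (Q.subtype z : G) = (z : G) from rfl, hmem, orderOf_one] at ht2
    norm_num at ht2
  refine ⟨Additive A, open scoped IsMulCommutative in inferInstance, inferInstance, inferInstance,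
    Sz.sectAct Q A (fun q hq a ha => ha.2.2 q hq) e, fun v => ?_, ?_⟩
  · exact Additive.toMul.injective (Subtype.ext (Additive.toMul v).2.2.1)
  · exact Sz.sectAct_fpf Q A _ (fun a ha => ha.1) e (oddFpf_of_cit hG hQ)

variable {F : Type} [Field F] [Fintype F]

local notation "PG" => ProjectiveSpecialLinearGroup (Fin 2) F

theorem uSL_mul (a b : F) : H21.uSL a * H21.uSL b = H21.uSL (a + b) := by
  apply Subtype.ext
  rw [Matrix.SpecialLinearGroup.coe_mul]
  ext i j
  fin_cases i <;> fin_cases j <;> simp [H21.uSL, mul_apply, Fin.sum_univ_two, add_comm]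

theorem mk_uSL_inj (h2 : (2 : F) ≠ 0) {a b : F}
    (h : (QuotientGroup.mk (H21.uSL a) : PG) = QuotientGroup.mk (H21.uSL b)) : a = b := by
  rcases (H89.psl2_eq_iff _ _).1 h with h | h
  · simpa [H21.uSL] using congrFun (congrFun h 0) 1
  · exfalso
    have h00 := congrFun (congrFun h 0) 0
    simp [H21.uSL] at h00
    exact h2 (by linear_combination h00)

theorem uSL_zero : H21.uSL (0 : F) = 1 := by
  apply Subtype.ext
  ext i j
  fin_cases i <;> fin_cases j <;> simp [H21.uSL]

/-- `PSL₂(9)` does not occur. -/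
theorem false_psl_nine (hF : Fintype.card F = 9) {V : Type u} [AddCommGroup V] [Finite V]
    [Nontrivial V] (h2 : ∀ v : V, v + v = 0) (ρ : PG →* AddMonoid.End V) (hρ : Sz.Fpf ρ) : False := by
  classical
  haveI : Fact (Nat.Prime 3) := ⟨Nat.prime_three⟩
  have h9 : (9 : F) = 0 := by have := FiniteField.cast_card_eq_zero F; rw [hF] at this; exact_mod_cast this
  have h3 : (3 : F) = 0 := mul_self_eq_zero.1 (by linear_combination h9 : (3 : F) * 3 = 0)
  have h2' : (2 : F) ≠ 0 := fun h => one_ne_zero (by linear_combination h3 - h : (1 : F) = 0)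
  obtain ⟨a, ha⟩ : ∃ a : F, a ∉ ({0, 1, 1 + 1} : Finset F) := by
    by_contra hall
    push Not at hall
    have hle : Fintype.card F ≤ ({0, 1, 1 + 1} : Finset F).card :=
      Finset.card_le_card (fun x _ => hall x)
    have hc : ({0, 1, 1 + 1} : Finset F).card ≤ 3 := Finset.card_le_three
    omega
  simp only [Finset.mem_insert, Finset.mem_singleton, not_or] at ha
  have ho : ∀ c : F, c ≠ 0 → orderOf (QuotientGroup.mk (H21.uSL c) : PG) = 3 := by
    intro c hc
    refine orderOf_eq_prime ?_ fun h => hc ?_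
    · rw [pow_succ, pow_two, ← QuotientGroup.mk_mul, ← QuotientGroup.mk_mul, uSL_mul, uSL_mul,
        show c + c + c = 0 by linear_combination c * h3, uSL_zero, QuotientGroup.mk_one]
    · rw [← QuotientGroup.mk_one, ← uSL_zero] at h
      exact mk_uSL_inj h2' h
  refine no_nine h2 ρ hρ (ho 1 one_ne_zero) (ho a ha.1) ?_ ?_
  · rw [← QuotientGroup.mk_mul, ← QuotientGroup.mk_mul, uSL_mul, uSL_mul, add_comm]
  · intro hmem
    rw [← IsOfFinOrder.mem_powers_iff_mem_zpowers (isOfFinOrder_of_finite _)] at hmem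
    obtain ⟨i, hi⟩ := hmem
    have hi : (QuotientGroup.mk (H21.uSL (1 : F)) : PG) ^ i = QuotientGroup.mk (H21.uSL a) := hi
    rw [← pow_mod_orderOf, ho 1 one_ne_zero] at hi
    have : i % 3 = 0 ∨ i % 3 = 1 ∨ i % 3 = 2 := by omega
    rcases this with hm | hm | hm <;> rw [hm] at hi
    · rw [pow_zero, ← QuotientGroup.mk_one, ← uSL_zero] at hi
      exact ha.1 (mk_uSL_inj h2' hi).symm
    · rw [pow_one] at hi
      exact ha.2.1 (mk_uSL_inj h2' hi).symm
    · rw [pow_two, ← QuotientGroup.mk_mul, uSL_mul] at hi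
      exact ha.2.2 (mk_uSL_inj h2' hi).symm

/-- `PSL₂(p)` with `p` prime and order divisible by eight does not occur. -/
theorem false_psl_prime (hp : (Fintype.card F).Prime) [IsSimpleGroup PG] (h2F : (2 : F) ≠ 0)
    (h8 : 8 ∣ Nat.card PG) {V : Type u} [AddCommGroup V] [Finite V]
    [Nontrivial V] (h2 : ∀ v : V, v + v = 0) (ρ : PG →* AddMonoid.End V) (hρ : Sz.Fpf ρ) : False := by
  haveI : Fact (Nat.Prime 2) := ⟨Nat.prime_two⟩
  haveI : Fact (Nat.Prime 3) := ⟨Nat.prime_three⟩
  set w : PG := QuotientGroup.mk H21.wSL with hw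
  set u : PG := QuotientGroup.mk (H21.uSL 1) with hu
  have hww : w * w = 1 := by
    rw [hw, ← QuotientGroup.mk_mul, ← QuotientGroup.mk_one, H89.psl2_eq_iff]
    right
    simp only [Matrix.SpecialLinearGroup.coe_mul, Matrix.SpecialLinearGroup.coe_one]
    ext i j
    fin_cases i <;> fin_cases j <;> simp [H21.wSL, mul_apply, Fin.sum_univ_two]
  set x : PG := w * u with hx
  have hx3 : orderOf x = 3 := by
    refine orderOf_eq_prime ?_ ?_
    · rw [hx, hw, hu, ← QuotientGroup.mk_mul, pow_succ, pow_two, ← QuotientGroup.mk_mul,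
        ← QuotientGroup.mk_mul, ← QuotientGroup.mk_one, H89.psl2_eq_iff]
      left
      simp only [Matrix.SpecialLinearGroup.coe_mul, Matrix.SpecialLinearGroup.coe_one]
      ext i j
      fin_cases i <;> fin_cases j <;> simp [H21.wSL, H21.uSL, mul_apply, Fin.sum_univ_two]
    · rw [hx, hw, hu, ← QuotientGroup.mk_mul, ne_eq, ← QuotientGroup.mk_one, H89.psl2_eq_iff]
      rintro (h | h) <;>
      · simp only [Matrix.SpecialLinearGroup.coe_mul, Matrix.SpecialLinearGroup.coe_one] at h
        have h01 := congrFun (congrFun h 0) 1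
        simp [H21.wSL, H21.uSL, mul_apply, Fin.sum_univ_two] at h01
  set y : PG := w * x * w⁻¹ with hy
  have hy3 : orderOf y = 3 := (MulEquiv.orderOf_eq (MulAut.conj w) x).trans hx3
  have hwi : w⁻¹ = w := inv_eq_of_mul_eq_one_right hww
  -- `w` and `u` generate
  have hgen : ∀ K : Subgroup PG, w ∈ K → u ∈ K → K = ⊤ := by
    intro K hwK huK
    haveI := Fact.mk hp
    have hnat : ∀ c : F, ∃ n : ℕ, (n : F) = c := fun c =>
      ⟨((ZMod.ringEquivOfPrime F hp rfl).symm c).val, by
        rw [← map_natCast (ZMod.ringEquivOfPrime F hp rfl), ZMod.natCast_zmod_val,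
          RingEquiv.apply_symm_apply]⟩
    have hu' : ∀ c : F, (QuotientGroup.mk (H21.uSL c) : PG) ∈ K := by
      intro c
      obtain ⟨n, rfl⟩ := hnat c
      induction n with
      | zero => rw [Nat.cast_zero, uSL_zero, QuotientGroup.mk_one]; exact one_mem K
      | succ n ih =>
        rw [Nat.cast_succ, ← uSL_mul, QuotientGroup.mk_mul]
        exact mul_mem ih huK
    refine eq_top_iff.2 fun g _ => ?_
    obtain ⟨A, rfl⟩ := QuotientGroup.mk_surjective g
    refine H21.sl2_mem_of_unipotents (K.comap (QuotientGroup.mk' _)) (fun c => hu' c) (fun c => ?_) A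
    show (QuotientGroup.mk (H21.lSL c) : PG) ∈ K
    have : H21.lSL c = H21.wSL * H21.uSL (-c) * (H21.wSL)⁻¹ := by
      rw [eq_mul_inv_iff_mul_eq]
      apply Subtype.ext
      rw [Matrix.SpecialLinearGroup.coe_mul, Matrix.SpecialLinearGroup.coe_mul]
      ext i j
      fin_cases i <;> fin_cases j <;>
        simp [H21.wSL, H21.uSL, H21.lSL, mul_apply, Fin.sum_univ_two]
    rw [this, QuotientGroup.mk_mul, QuotientGroup.mk_mul, QuotientGroup.mk_inv]
    exact mul_mem (mul_mem hwK (hu' _)) (inv_mem hwK)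
  set H := Subgroup.closure ({x, y} : Set PG) with hH
  have hxH : x ∈ H := subset_closure (by simp)
  have hwN : w ∈ normalizer (H : Set PG) := by
    have hmap : ∀ z ∈ H, w * z * w⁻¹ ∈ H := by
      intro z hz
      have h1 : H.map (MulAut.conj w).toMonoidHom ≤ H := by
        rw [hH, MonoidHom.map_closure, closure_le]
        rintro _ ⟨z, rfl | rfl, rfl⟩
        · exact subset_closure (by simp [hy])
        · refine subset_closure ?_
          left
          show w * y * w⁻¹ = x
          rw [hy, hwi]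
          calc w * (w * x * w) * w = (w * w) * x * (w * w) := by group
            _ = x := by rw [hww, one_mul, mul_one]
      exact h1 ⟨z, hz, rfl⟩
    refine mem_normalizer_iff.2 fun z => ⟨hmap z, fun hz => ?_⟩
    have := hmap _ hz
    rwa [hwi, show w * (w * z * w) * w = (w * w) * z * (w * w) by group, hww, one_mul,
      mul_one] at this
  have htop : normalizer (H : Set PG) = ⊤ := hgen _ hwN (by
    have : u = w⁻¹ * x := by rw [hx, inv_mul_cancel_left]
    rw [this]
    exact mul_mem (inv_mem hwN) (le_normalizer hxH))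
  haveI : H.Normal := normalizer_eq_top_iff.1 htop
  have hHtop : H = ⊤ := ((inferInstance : H.Normal).eq_bot_or_eq_top).resolve_left fun h => by
    rw [h, mem_bot] at hxH
    rw [hxH, orderOf_one] at hx3
    omega
  obtain ⟨S, hS⟩ := Sylow.exists_subgroup_card_pow_prime 2 (n := 3) (by norm_num; exact h8)
  by_cases h4 : ∃ g : PG, orderOf g = 4
  · obtain ⟨g, hg⟩ := h4
    exact no_four h2 ρ hρ hx3 hy3 hHtop hg
  refine absurd (card_elem_psl_odd h2F S fun z hz => ?_) (by rw [hS]; norm_num)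
  have hd : orderOf z ∣ 2 ^ 3 := hS ▸ Subgroup.orderOf_dvd_natCard S hz
  obtain ⟨i, hi, hzi⟩ := (Nat.dvd_prime_pow Nat.prime_two).1 hd
  interval_cases i
  · rw [pow_zero, orderOf_eq_one_iff] at hzi; rw [hzi, one_mul]
  · exact H11.CIT.sq_eq_one (by simpa using hzi)
  · exact absurd ⟨z, by simpa using hzi⟩ h4
  · refine absurd ⟨z ^ 2, ?_⟩ h4
    rw [orderOf_pow, hzi]
    norm_num

/-- The simple quotient is `PSL₂(2ⁿ)`, `n ≥ 2`, or a Suzuki group. -/
theorem quotient_list (hG : IsCIT G) (Q : Subgroup G) [Q.Normal] (hQ : IsPGroup 2 Q) (hne : Q ≠ ⊥)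
    [IsSimpleGroup (G ⧸ Q)] (hL : CITList (G ⧸ Q)) :
    (∃ (F : Type) (_ : Field F) (_ : Fintype F), CharP F 2 ∧ 4 ≤ Fintype.card F ∧
      Nonempty (G ⧸ Q ≃* ProjectiveSpecialLinearGroup (Fin 2) F)) ∨
    Cfsg.Lie.IsoSuzuki (G ⧸ Q) := by
  haveI : Fact (Nat.Prime 2) := ⟨Nat.prime_two⟩
  haveI : Fact (Nat.Prime 3) := ⟨Nat.prime_three⟩
  have char2 : ∀ (F : Type) (_ : Field F) (_ : Fintype F) (n : ℕ), Fintype.card F = 2 ^ n →
      (G ⧸ Q ≃* ProjectiveSpecialLinearGroup (Fin 2) F) →
      ∃ (F : Type) (_ : Field F) (_ : Fintype F), CharP F 2 ∧ 4 ≤ Fintype.card F ∧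
        Nonempty (G ⧸ Q ≃* ProjectiveSpecialLinearGroup (Fin 2) F) := by
    intro F iF jF n hn e
    haveI := H28.CITGraph.charTwo_of_card hn
    refine ⟨F, iF, jF, inferInstance, ?_, ⟨e⟩⟩
    by_contra hlt
    have h1 : 1 < Fintype.card F := Fintype.one_lt_card
    have h23 : Fintype.card F = 2 ∨ Fintype.card F = 3 := by omega
    rcases h23 with h | h
    · have hc := H39.card_PSL2_mul (F := F)
      rw [h, ← Nat.card_congr e.toEquiv] at hc
      norm_num at hc
      obtain ⟨z, hz⟩ := exists_prime_orderOf_dvd_card' (G := G ⧸ Q) 3 (by omega)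
      have hi : (zpowers z).index = 2 := by
        have := (zpowers z).card_mul_index
        rw [Nat.card_zpowers, hz, hc] at this
        omega
      haveI := normal_of_index_eq_two hi
      rcases (inferInstance : (zpowers z).Normal).eq_bot_or_eq_top with h | h
      · rw [zpowers_eq_bot] at h; rw [h, orderOf_one] at hz; omega
      · rw [h, index_top] at hi; omega
    · rw [h] at hn
      have := congrArg (· % 2) hn
      rcases n with _ | n
      · simp at hn
      · simp [pow_succ] at this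
  rcases hL with ⟨F, iF, jF, hF, ⟨e⟩⟩ | ⟨F, iF, jF, hF, ⟨e⟩⟩ | hS
  · rcases hF with h9 | ⟨n, hn⟩ | ⟨hp, k, hk⟩
    · obtain ⟨V, _, _, _, ρ, h2, hρ⟩ := exists_module hG Q hQ hne e
      exact (false_psl_nine h9 h2 ρ hρ).elim
    · exact Or.inl (char2 F iF jF n hn e)
    · by_cases hp2 : Fintype.card F = 2
      · exact Or.inl (char2 F iF jF 1 (by rw [hp2, pow_one]) e)
      by_cases hp3 : Fintype.card F = 3
      · exact (not_simple_psl_three hp3 e).elim
      by_cases hp5 : Fintype.card F = 5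
      · letI : Fintype (GaloisField 2 2) := Fintype.ofFinite _
        have hc : Nat.card (GaloisField 2 2) = 4 := by rw [GaloisField.card 2 2 two_ne_zero]; rfl
        obtain ⟨a⟩ := H37.PSL2_five_mulEquiv_alternating (F := F) hp5
        obtain ⟨b⟩ := H37.PSL2_four_mulEquiv_alternating (F := GaloisField 2 2) hc
        exact Or.inl (char2 (GaloisField 2 2) inferInstance inferInstance 2
          (by rw [← Nat.card_eq_fintype_card, hc]; norm_num) ((e.trans a).trans b.symm))
      obtain ⟨V, _, _, _, ρ, h2, hρ⟩ := exists_module hG Q hQ hne e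
      haveI := e.symm.isSimpleGroup
      have hodd : Odd (Fintype.card F) := hp.odd_of_ne_two hp2
      have h2F : (2 : F) ≠ 0 := by
        intro h
        obtain ⟨c, hc⟩ := hodd
        have h0 := FiniteField.cast_card_eq_zero F
        rw [hc, Nat.cast_add, Nat.cast_mul, Nat.cast_ofNat, h, zero_mul, zero_add, Nat.cast_one] at h0
        exact one_ne_zero h0
      refine (false_psl_prime hp h2F ?_ h2 ρ hρ).elim
      have h := H39.card_PSL2_mul (F := F)
      set p := Fintype.card F with hpdef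
      have hgcd : Nat.gcd 2 (p - 1) = 2 := by
        obtain ⟨c, hc⟩ := hodd
        rw [hc, Nat.add_sub_cancel]
        exact Nat.gcd_eq_left (dvd_mul_right 2 c)
      rw [hgcd] at h
      have hk3 : 3 ≤ k := by
        by_contra hlt
        have : 2 ^ k ≤ 2 ^ 2 := Nat.pow_le_pow_right two_pos (by omega)
        have := hp.two_le
        have hk' : k = 0 ∨ k = 1 ∨ k = 2 := by omega
        rcases hk' with rfl | rfl | rfl <;> norm_num at hk <;> rcases hk with hk | hk <;> omega
      have h16 : 16 ∣ p ^ 2 - 1 := by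
        obtain ⟨j, rfl⟩ : ∃ j, k = j + 3 := ⟨k - 3, by omega⟩
        have hf : p ^ 2 - 1 = (p + 1) * (p - 1) := by rw [← Nat.sq_sub_sq, one_pow]
        rw [hf, show (16 : ℕ) = 8 * 2 from rfl]
        rcases hk with hk | hk
        · rw [show p - 1 = 8 * 2 ^ j by rw [hk, pow_add]; omega, mul_comm (p + 1)]
          exact mul_dvd_mul (dvd_mul_right 8 _) (by obtain ⟨c, hc⟩ := hodd; omega)
        · rw [show p + 1 = 8 * 2 ^ j by rw [hk, pow_add]; ring]
          exact mul_dvd_mul (dvd_mul_right 8 _) (by obtain ⟨c, hc⟩ := hodd; omega)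
      have h16' : 2 * 8 ∣ 2 * Nat.card (ProjectiveSpecialLinearGroup (Fin 2) F) :=
        h ▸ dvd_mul_of_dvd_right h16 _
      exact Nat.dvd_of_mul_dvd_mul_left two_pos h16'
  · obtain ⟨V, _, _, _, ρ, h2, hρ⟩ := exists_module hG Q hQ hne e
    obtain ⟨x, y, hx, hy, hc, hn⟩ := nineGroup_psl34 hF
    exact (no_nine h2 ρ hρ hx hy hc hn).elim
  · exact Or.inr hS

end H22.CN.Ext
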