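import Cfsg.Agent.H22.CN.Sz.Module

/-!
Two elements of order three acting without fixed points on an elementary abelian 2-group: they do not
generate a non-cyclic group of order nine, and the elements of the group they generate satisfy
quadratic equations.
-/

set_option autoImplicit false
set_option linter.unusedSectionVars false
set_option linter.unusedSimpArgs false
set_option linter.style.haveILetI false

namespace H22.CN.Ext

open H22.CN.Sz

variable {X : Type*} [Group X] {V : Type*} [AddCommGroup V] [Finite V]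

theorem end_two (h2 : ∀ v : V, v + v = 0) (f : AddMonoid.End V) : f + f = 0 :=
  AddMonoidHom.ext fun v => h2 (f v)

theorem end_sub_eq_add (h2 : ∀ v : V, v + v = 0) (f g : AddMonoid.End V) : f - g = f + g := by
  rw [sub_eq_add_neg, neg_eq_of_add_eq_zero_left (end_two h2 g)]

/-- The minimal polynomial of an element of order three. -/
theorem three_rel (h2 : ∀ v : V, v + v = 0) (ρ : X →* AddMonoid.End V) (hf : Fpf ρ) {x : X}
    (hx : orderOf x = 3) : ρ x * ρ x = ρ x + 1 := by
  refine AddMonoidHom.ext fun v => ?_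
  show ρ x (ρ x v) = ρ x v + v
  have h3 : ρ x (ρ x (ρ x v)) = v := by
    rw [← act_comp, ← act_comp, show x * x * x = x ^ 3 by rw [pow_succ, pow_two], ← hx,
      pow_orderOf_eq_one, act_id]
  have h : v + ρ x v + ρ x (ρ x v) = 0 := hf x (fun e => by rw [e, orderOf_one] at hx; omega)
    (by rw [hx]; norm_num) _ (by rw [map_add, map_add, h3]; abel)
  calc ρ x (ρ x v) = ρ x (ρ x v) + ((v + ρ x v) + (v + ρ x v)) := by rw [h2, add_zero]
    _ = (v + ρ x v + ρ x (ρ x v)) + (ρ x v + v) := by abel
    _ = ρ x v + v := by rw [h, zero_add]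

/-- No two independent commuting elements of order three. -/
theorem no_nine [Nontrivial V] (h2 : ∀ v : V, v + v = 0) (ρ : X →* AddMonoid.End V) (hf : Fpf ρ)
    {x y : X} (hx : orderOf x = 3) (hy : orderOf y = 3) (hc : x * y = y * x)
    (hn : y ∉ Subgroup.zpowers x) : False := by
  haveI : Fact (Nat.Prime 3) := ⟨Nat.prime_three⟩
  have hc' : Commute x y := hc
  have hxy : orderOf (x * y) = 3 := by
    refine orderOf_eq_prime (by rw [hc'.mul_pow, ← hx, pow_orderOf_eq_one, one_mul, hx, ← hy,
      pow_orderOf_eq_one]) fun h => hn ?_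
    rw [← inv_eq_of_mul_eq_one_right h]
    exact inv_mem (Subgroup.mem_zpowers x)
  have hX := three_rel h2 ρ hf hx
  have hY := three_rel h2 ρ hf hy
  have hXY := three_rel h2 ρ hf hxy
  rw [map_mul] at hXY
  have hcR : ρ x * ρ y = ρ y * ρ x := by rw [← map_mul, hc, map_mul]
  have h4 : ρ x * ρ y * (ρ x * ρ y) = ρ x * ρ y + ρ x + ρ y + 1 := by
    calc ρ x * ρ y * (ρ x * ρ y) = ρ x * (ρ y * ρ x) * ρ y := by simp only [mul_assoc]
      _ = ρ x * ρ x * (ρ y * ρ y) := by rw [← hcR]; simp only [mul_assoc]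
      _ = ρ x * ρ y + ρ x + ρ y + 1 := by
        rw [hX, hY, add_mul, mul_add, one_mul, mul_one, ← add_assoc]
  rw [h4] at hXY
  have hxy' : ρ x = ρ y := by
    have h5 : ρ x + ρ y = 0 := by
      have : (ρ x * ρ y + 1) + (ρ x + ρ y) = (ρ x * ρ y + 1) + 0 := by
        rw [add_zero]; conv_rhs => rw [← hXY]
        abel
      exact add_left_cancel this
    rw [← sub_eq_zero, end_sub_eq_add h2, h5]
  obtain ⟨v, hv⟩ := exists_ne (0 : V)
  have hz : x⁻¹ * y ≠ 1 := fun h => hn (by
    rw [← inv_mul_eq_one.1 h]; exact Subgroup.mem_zpowers x)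
  refine hv (hf (x⁻¹ * y) hz (fun h => ?_) v ?_)
  · have h3 : (x⁻¹ * y) ^ 3 = 1 := by
      rw [hc'.inv_left.mul_pow, inv_pow, ← hy, pow_orderOf_eq_one, hy, ← hx, pow_orderOf_eq_one]
      simp
    have := h.trans (orderOf_dvd_of_pow_eq_one h3)
    norm_num at this
  · rw [map_mul]
    show ρ x⁻¹ (ρ y v) = v
    rw [← hxy', ← act_comp, inv_mul_cancel, act_id]

/-- Commutes with both generators. -/
def Cen (A B a : AddMonoid.End V) : Prop := a * A = A * a ∧ a * B = B * a

theorem Cen.add {A B a b : AddMonoid.End V} (ha : Cen A B a) (hb : Cen A B b) : Cen A B (a + b) :=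
  ⟨by rw [add_mul, mul_add, ha.1, hb.1], by rw [add_mul, mul_add, ha.2, hb.2]⟩

theorem Cen.mul {A B a b : AddMonoid.End V} (ha : Cen A B a) (hb : Cen A B b) : Cen A B (a * b) :=
  ⟨by rw [mul_assoc, hb.1, ← mul_assoc, ha.1, mul_assoc],
    by rw [mul_assoc, hb.2, ← mul_assoc, ha.2, mul_assoc]⟩

/-- In the group generated by two such elements, `g + g⁻¹` is central. -/
theorem exists_trace (h2 : ∀ v : V, v + v = 0) (ρ : X →* AddMonoid.End V) (hf : Fpf ρ) [Finite X]
    {x y : X} (hx : orderOf x = 3) (hy : orderOf y = 3) {g : X}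
    (hg : g ∈ Subgroup.closure ({x, y} : Set X)) :
    ∃ T, Cen (ρ x) (ρ y) T ∧ ρ g + ρ g⁻¹ = T := by
  set A := ρ x with hA
  set B := ρ y with hB
  have hAA : A * A = A + 1 := three_rel h2 ρ hf hx
  have hBB : B * B = B + 1 := three_rel h2 ρ hf hy
  have c1 : Cen A B 1 := ⟨by rw [one_mul, mul_one], by rw [one_mul, mul_one]⟩
  have c0 : Cen A B 0 := ⟨by rw [zero_mul, mul_zero], by rw [zero_mul, mul_zero]⟩
  set z := A * B + B * A + A + B with hz
  have hAA' : ∀ w, A * (A * w) = A * w + w := fun w => by rw [← mul_assoc, hAA, add_mul, one_mul]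
  have hBB' : ∀ w, B * (B * w) = B * w + w := fun w => by rw [← mul_assoc, hBB, add_mul, one_mul]
  have two : ∀ w : AddMonoid.End V, w + w = 0 := end_two h2
  have two' : ∀ w : AddMonoid.End V, (2 : ℤ) • w = 0 := fun w => by rw [two_zsmul, two]
  have three' : ∀ w : AddMonoid.End V, (3 : ℤ) • w = w := fun w => by
    rw [show (3 : ℤ) = 2 + 1 by rfl, add_zsmul, two', one_zsmul, zero_add]
  have four' : ∀ w : AddMonoid.End V, (4 : ℤ) • w = 0 := fun w => by
    rw [show (4 : ℤ) = 2 + 2 by rfl, add_zsmul, two', zero_add]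
  have cz : Cen A B z := by
    constructor <;>
      (rw [← sub_eq_zero, end_sub_eq_add h2, hz]
       simp only [mul_add, add_mul, mul_assoc, hAA, hBB, hAA', hBB', mul_one, one_mul]
       abel_nf
       simp only [two', three', four', add_zero, zero_add])
  have hBA : B * A = z + A * B + A + B := by
    rw [← sub_eq_zero, end_sub_eq_add h2, hz]
    abel_nf
    simp only [two', four', add_zero, zero_add]
  have hBA' : ∀ w, B * (A * w) = z * w + A * (B * w) + A * w + B * w := fun w => by
    rw [← mul_assoc, hBA, add_mul, add_mul, add_mul, mul_assoc A B w]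
  have key : ∀ g ∈ Subgroup.closure ({x, y} : Set X), ∃ a b c d, Cen A B a ∧ Cen A B b ∧
      Cen A B c ∧ Cen A B d ∧ ρ g = a + b * A + c * B + d * (A * B) ∧
      ρ g⁻¹ = (a + (b + c + d + d * z)) + b * A + c * B + d * (A * B) := by
    intro g hg
    have hg' : g ∈ Submonoid.closure ({x, y} : Set X) := by
      rw [← Subgroup.closure_toSubmonoid_of_finite]
      exact hg
    clear hg
    induction hg' using Submonoid.closure_induction_right with
    | one =>
      exact ⟨1, 0, 0, 0, c1, c0, c0, c0, by simp, by simp⟩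
    | mul_right g _ w hw ih =>
      obtain ⟨a, b, c, d, ha, hb, hc, hd, hg1, hg2⟩ := ih
      have hxi : ρ x⁻¹ = A + 1 := by
        rw [← hAA, hA, ← map_mul]
        congr 1
        rw [inv_eq_iff_mul_eq_one, show x * (x * x) = x ^ 3 by rw [pow_succ', pow_two], ← hx,
          pow_orderOf_eq_one]
      have hyi : ρ y⁻¹ = B + 1 := by
        rw [← hBB, hB, ← map_mul]
        congr 1
        rw [inv_eq_iff_mul_eq_one, show y * (y * y) = y ^ 3 by rw [pow_succ', pow_two], ← hy,
          pow_orderOf_eq_one]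
      have mv : ∀ {e : AddMonoid.End V}, Cen A B e → ∀ w, A * (e * w) = e * (A * w) ∧
          B * (e * w) = e * (B * w) ∧ z * (e * w) = (z * e) * w := fun he w => ⟨by
        rw [← mul_assoc, ← he.1, mul_assoc], by rw [← mul_assoc, ← he.2, mul_assoc],
          (mul_assoc _ _ _).symm⟩
      rcases hw with rfl | rfl
      · refine ⟨b + c * z + d, a + b + c + d + d * z, c + d, c, (hb.add (hc.mul cz)).add hd,
          (((ha.add hb).add hc).add hd).add (hd.mul cz), hc.add hd, hc, ?_, ?_⟩
        · rw [map_mul, ← hA, hg1, ← sub_eq_zero, end_sub_eq_add h2]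
          simp only [mul_add, add_mul, mul_assoc, hAA, hBB, hAA', hBB', hBA, hBA', mul_one, one_mul,
            ha.1, ha.2, hb.1, hb.2, cz.1, cz.2]
          abel_nf
          simp only [two', three', four', ← cz.1, ← cz.2, add_zero, zero_add]
        · rw [_root_.mul_inv_rev, map_mul, hxi, hg2, ← sub_eq_zero, end_sub_eq_add h2]
          simp only [mul_add, add_mul, mul_assoc, (mv ha _).1, (mv hb _).1, (mv hc _).1, (mv hd _).1,
            (mv cz _).1, hAA, hBB, hAA', hBB', hBA, hBA', mul_one, one_mul, ← ha.1, ← hb.1, ← hc.1,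
            ← hd.1, ← cz.1]
          abel_nf
          simp only [two', three', four', add_zero, zero_add]
      · refine ⟨c, d, a + c, b + d, hc, hd, ha.add hc, hb.add hd, ?_, ?_⟩
        · rw [map_mul, ← hB, hg1, ← sub_eq_zero, end_sub_eq_add h2]
          simp only [mul_add, add_mul, mul_assoc, hAA, hBB, hAA', hBB', hBA, hBA', mul_one, one_mul]
          abel_nf
          simp only [two', three', four', add_zero, zero_add]
        · rw [_root_.mul_inv_rev, map_mul, hyi, hg2, ← sub_eq_zero, end_sub_eq_add h2]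
          simp only [mul_add, add_mul, mul_assoc, (mv ha _).2.1, (mv hb _).2.1, (mv hc _).2.1,
            (mv hd _).2.1, (mv cz _).2.1, hAA, hBB, hAA', hBB', hBA, hBA', mul_one, one_mul,
            ← ha.2, ← hb.2, ← hc.2, ← hd.2, ← cz.2]
          abel_nf
          simp only [two', three', four', add_zero, zero_add]
  obtain ⟨a, b, c, d, -, hb, hc, hd, hg1, hg2⟩ := key g hg
  refine ⟨b + c + d + d * z, ((hb.add hc).add hd).add (hd.mul cz), ?_⟩
  rw [hg1, hg2, ← sub_eq_zero, end_sub_eq_add h2]
  abel_nf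
  simp only [two', three', four', add_zero, zero_add]

/-- A simple group generated by two conjugate elements of order three acting without fixed points
has no elements of order four. -/
theorem no_four [Finite X] [IsSimpleGroup X] [Nontrivial V] (h2 : ∀ v : V, v + v = 0)
    (ρ : X →* AddMonoid.End V) (hf : Fpf ρ) {x y g : X} (hx : orderOf x = 3) (hy : orderOf y = 3)
    (hgen : Subgroup.closure ({x, y} : Set X) = ⊤) (hg : orderOf g = 4) : False := by
  obtain ⟨T, ⟨hT1, hT2⟩, hT⟩ := exists_trace h2 ρ hf hx hy (g := g) (hgen ▸ Subgroup.mem_top g)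
  have hg4 : g ^ 4 = 1 := hg ▸ pow_orderOf_eq_one g
  have hgi : g⁻¹ * g⁻¹ = g * g := by
    rw [← mul_inv_rev, inv_eq_iff_mul_eq_one, ← mul_assoc,
      show g * g * g * g = g ^ 4 by simp [pow_succ, mul_assoc], hg4]
  have hTT : T * T = 0 := by
    rw [← hT, mul_add, add_mul, add_mul, ← map_mul, ← map_mul, ← map_mul, ← map_mul, inv_mul_cancel,
      mul_inv_cancel, map_one, hgi]
    rw [show ρ (g * g) + 1 + (1 + ρ (g * g)) = (ρ (g * g) + ρ (g * g)) + (1 + 1) by abel,
      end_two h2, end_two h2, add_zero]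
  let K : AddSubgroup V := (show V →+ V from T).ker
  have hTh : ∀ h : X, T * ρ h = ρ h * T := by
    intro h
    have hh : h ∈ Subgroup.closure ({x, y} : Set X) := hgen ▸ Subgroup.mem_top h
    induction hh using Subgroup.closure_induction with
    | mem w hw => rcases hw with rfl | rfl <;> assumption
    | one => rw [map_one, mul_one, one_mul]
    | mul a b _ _ ha hb => rw [map_mul, ← mul_assoc, ha, mul_assoc, hb, mul_assoc]
    | inv a _ ha =>
      calc T * ρ a⁻¹ = ρ a⁻¹ * (ρ a * T) * ρ a⁻¹ := by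
            rw [← mul_assoc, ← map_mul, inv_mul_cancel, map_one, one_mul]
        _ = ρ a⁻¹ * T * (ρ a * ρ a⁻¹) := by rw [← ha]; simp only [mul_assoc]
        _ = ρ a⁻¹ * T := by rw [← map_mul, mul_inv_cancel, map_one, mul_one]
  have hKinv : ∀ (h : X) (v : V), v ∈ K → ρ h v ∈ K := fun h v hv => by
    show T (ρ h v) = 0
    have := DFunLike.congr_fun (hTh h) v
    change T (ρ h v) = ρ h (T v) at this
    rw [this, show T v = 0 from hv, map_zero]
  obtain ⟨v₀, hv₀, hv₀0⟩ : ∃ v ∈ K, v ≠ 0 := by
    obtain ⟨v, hv⟩ := exists_ne (0 : V)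
    by_cases h : T v = 0
    · exact ⟨v, h, hv⟩
    · exact ⟨T v, DFunLike.congr_fun hTT v, h⟩
  let N : Subgroup X :=
    { carrier := {h | ∀ v ∈ K, ρ h v = v}
      one_mem' := fun v _ => act_id ρ v
      mul_mem' := fun {a b} ha hb v hv => by rw [act_comp, hb v hv, ha v hv]
      inv_mem' := fun {a} ha v hv => by
        conv_lhs => rw [← ha v hv]
        rw [← act_comp, inv_mul_cancel, act_id] }
  haveI : N.Normal := ⟨fun a ha h v hv => by
    rw [act_comp, act_comp, ha _ (hKinv _ _ hv), ← act_comp, mul_inv_cancel, act_id]⟩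
  have hgN : g * g ∈ N := fun v hv => by
    have h := DFunLike.congr_fun hT v
    change ρ g v + ρ g⁻¹ v = T v at h
    rw [show T v = 0 from hv] at h
    rw [add_eq_zero_iff_eq_neg, neg_eq_of_add_eq_zero_left (h2 _)] at h
    rw [act_comp, h, ← act_comp, mul_inv_cancel, act_id]
  rcases (inferInstance : N.Normal).eq_bot_or_eq_top with h | h
  · rw [h, Subgroup.mem_bot, ← sq] at hgN
    have h' := orderOf_dvd_of_pow_eq_one hgN
    rw [hg] at h'
    norm_num at h'
  · refine hv₀0 (hf x (fun e => by rw [e, orderOf_one] at hx; omega) (by rw [hx]; norm_num) v₀ ?_)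
    exact (h.symm ▸ Subgroup.mem_top x : x ∈ N) v₀ hv₀

end H22.CN.Ext
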